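import Mathlib

/-!
The multiplicities of five induced virtual characters, and the resulting equations for the order.
-/

set_option autoImplicit false

namespace Cfsg.Agent.InvolGL23.Comb

variable {ι : Type*} [Fintype ι] [DecidableEq ι]

/-- A small norm forces coefficients of absolute value at most one. -/
theorem supp_of_small {m : ι → ℤ} {n : ℕ} (h : ∑ i, m i ^ 2 = n) (hn : n ≤ 3) :
    (∀ i, m i = 0 ∨ m i = 1 ∨ m i = -1) ∧ (Finset.univ.filter fun i => m i ≠ 0).card = n := by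
  have hb : ∀ i, m i = 0 ∨ m i = 1 ∨ m i = -1 := fun i => by
    have h1 := Finset.single_le_sum (f := fun j => m j ^ 2) (fun j _ => sq_nonneg _) (Finset.mem_univ i)
    have h2 : m i ^ 2 ≤ 3 := by omega
    have h3 : m i < 2 := by nlinarith
    have h4 : -2 < m i := by nlinarith
    omega
  refine ⟨hb, ?_⟩
  have h1 : ∀ i, m i ^ 2 = if m i ≠ 0 then 1 else 0 := fun i => by
    rcases hb i with e | e | e <;> simp [e]
  rw [Finset.sum_congr rfl fun i _ => h1 i, Finset.sum_boole] at h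
  exact_mod_cast h

/-- A weighted sum over the support. -/
theorem sum_of_supp {M : Type*} [AddCommMonoid M] {m : ι → ℤ} {S : Finset ι}
    (hS : ∀ i, i ∉ S → m i = 0) (F : ι → M) (hF : ∀ i, m i = 0 → F i = 0) :
    ∑ i, F i = ∑ i ∈ S, F i :=
  (Finset.sum_subset (Finset.subset_univ S) fun i _ hi => hF i (hS i hi)).symm

/-- A norm two vector of degree zero. -/
theorem norm_two {d m : ι → ℤ} (hd : ∀ i, 0 < d i) (h : ∑ i, m i ^ 2 = 2)
    (hdeg : ∑ i, m i * d i = 0) :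
    ∃ a b s, a ≠ b ∧ (s = 1 ∨ s = -1) ∧ m a = s ∧ m b = -s ∧ ∀ i, i ≠ a → i ≠ b → m i = 0 := by
  obtain ⟨hb, hc⟩ := supp_of_small (n := 2) (by exact_mod_cast h) (by norm_num)
  obtain ⟨a, b, hab, hs⟩ := Finset.card_eq_two.1 hc
  have h0 : ∀ i, i ∉ ({a, b} : Finset ι) → m i = 0 := fun i hi => by
    rw [← hs] at hi
    simpa using hi
  have ha : m a ≠ 0 := by
    have : a ∈ Finset.univ.filter fun i => m i ≠ 0 := by rw [hs]; simp
    simpa using this
  have hb' : m b ≠ 0 := by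
    have : b ∈ Finset.univ.filter fun i => m i ≠ 0 := by rw [hs]; simp
    simpa using this
  rw [sum_of_supp h0 (fun i => m i * d i) (fun i hi => by simp [hi]), Finset.sum_pair hab] at hdeg
  refine ⟨a, b, m a, hab, (hb a).resolve_left ha, rfl, ?_, fun i h1 h2 => h0 i (by simp [h1, h2])⟩
  have := hd a
  have := hd b
  rcases (hb a).resolve_left ha with e | e <;> rcases (hb b).resolve_left hb' with e' | e' <;>
    rw [e, e'] at hdeg ⊢ <;> omega

/-- The vector `A = s (δ α - δ β)`, `B = s (δ β - δ γ)`. -/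
structure Triple (A B : ι → ℤ) where
  α : ι
  β : ι
  γ : ι
  s : ℤ
  hαβ : α ≠ β
  hαγ : α ≠ γ
  hβγ : β ≠ γ
  hs : s = 1 ∨ s = -1
  Aα : A α = s
  Aβ : A β = -s
  A0 : ∀ i, i ≠ α → i ≠ β → A i = 0
  Bβ : B β = s
  Bγ : B γ = -s
  B0 : ∀ i, i ≠ β → i ≠ γ → B i = 0

theorem exists_triple {d A B : ι → ℤ} (hd : ∀ i, 0 < d i) (hAA : ∑ i, A i ^ 2 = 2)
    (hAd : ∑ i, A i * d i = 0) (hBB : ∑ i, B i ^ 2 = 2) (hBd : ∑ i, B i * d i = 0)
    (hAB : ∑ i, A i * B i = -1) : Nonempty (Triple A B) := by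
  obtain ⟨a, b, s, hab, hs, ha, hb, h0⟩ := norm_two hd hAA hAd
  obtain ⟨c, e, t, hce, ht, hc, he, h0'⟩ := norm_two hd hBB hBd
  have h1 : ∑ i, A i * B i = A a * B a + A b * B b := by
    rw [sum_of_supp (S := {a, b}) (m := A) (fun i hi => by simp at hi; exact h0 i hi.1 hi.2)
      (fun i => A i * B i) (fun i hi => by simp [hi]), Finset.sum_pair hab]
  rw [h1, ha, hb] at hAB
  have hBb : ∀ i, B i = 0 ∨ B i = 1 ∨ B i = -1 :=
    (supp_of_small (n := 2) (by exact_mod_cast hBB) (by norm_num)).1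
  have hcases : (B a = -s ∧ B b = 0) ∨ (B a = 0 ∧ B b = s) := by
    rcases hs with rfl | rfl <;> rcases hBb a with p | p | p <;> rcases hBb b with q | q | q <;>
      omega
  -- the second point of the support of `B`
  have key : ∀ x σ, (σ = 1 ∨ σ = -1) → B x = σ →
      ∃ y, y ≠ x ∧ B y = -σ ∧ ∀ i, i ≠ x → i ≠ y → B i = 0 := by
    intro x σ hσ hx
    have hx' : x = c ∨ x = e := by
      by_contra hh
      push Not at hh
      rcases hσ with rfl | rfl <;> rw [h0' x hh.1 hh.2] at hx <;> omega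
    rcases hx' with rfl | rfl
    · exact ⟨e, hce.symm, by omega, fun i => h0' i⟩
    · exact ⟨c, hce, by omega, fun i h1 h2 => h0' i h2 h1⟩
  rcases hcases with ⟨p, q⟩ | ⟨p, q⟩
  · obtain ⟨y, hy, hy1, hy2⟩ := key a (-s) (by omega) p
    refine ⟨⟨b, a, y, -s, hab.symm, fun e => ?_, hy.symm, by omega, hb, by simpa using ha,
      fun i h1 h2 => h0 i h2 h1, p, hy1, hy2⟩⟩
    subst e
    rcases hs with rfl | rfl <;> omega
  · obtain ⟨y, hy, hy1, hy2⟩ := key b s hs q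
    refine ⟨⟨a, b, y, s, hab, fun e => ?_, hy.symm, hs, ha, hb, h0, q, hy1, hy2⟩⟩
    subst e
    rcases hs with rfl | rfl <;> omega

variable {A B : ι → ℤ}

theorem Triple.sumA (T : Triple A B) (c : ι → ℤ) :
    ∑ i, c i * A i = T.s * (c T.α - c T.β) := by
  rw [sum_of_supp (S := {T.α, T.β}) (m := A) (fun i hi => by
    simp at hi; exact T.A0 i hi.1 hi.2) (fun i => c i * A i) (fun i hi => by simp [hi]),
    Finset.sum_pair T.hαβ, T.Aα, T.Aβ]
  ring

theorem Triple.sumB (T : Triple A B) (c : ι → ℤ) :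
    ∑ i, c i * B i = T.s * (c T.β - c T.γ) := by
  rw [sum_of_supp (S := {T.β, T.γ}) (m := B) (fun i hi => by
    simp at hi; exact T.B0 i hi.1 hi.2) (fun i => c i * B i) (fun i hi => by simp [hi]),
    Finset.sum_pair T.hβγ, T.Bβ, T.Bγ]
  ring

theorem Triple.eq_of_orth (T : Triple A B) {c : ι → ℤ} (hA : ∑ i, c i * A i = 0)
    (hB : ∑ i, c i * B i = 0) : c T.α = c T.β ∧ c T.β = c T.γ := by
  rw [T.sumA] at hA
  rw [T.sumB] at hB
  rcases T.hs with e | e <;> rw [e] at hA hB <;> omega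

/-- The system of the five multiplicity vectors. -/
structure Sys (o : ι) (d A B P Q R : ι → ℤ) : Prop where
  pos : ∀ i, 0 < d i
  one : d o = 1
  Ao : A o = 0
  Bo : B o = 0
  Po : P o = 1
  Qo : Q o = 0
  Ro : R o = 1
  AA : ∑ i, A i ^ 2 = 2
  BB : ∑ i, B i ^ 2 = 2
  PP : ∑ i, P i ^ 2 = 3
  QQ : ∑ i, Q i ^ 2 = 3
  RR : ∑ i, R i ^ 2 = 4
  AB : ∑ i, A i * B i = -1
  PA : ∑ i, P i * A i = 0
  PB : ∑ i, P i * B i = 0
  QA : ∑ i, Q i * A i = 0
  QB : ∑ i, Q i * B i = 0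
  RA : ∑ i, R i * A i = 1
  RB : ∑ i, R i * B i = 0
  PQ : ∑ i, P i * Q i = 1
  PR : ∑ i, R i * P i = 2
  QR : ∑ i, R i * Q i = 2
  dA : ∑ i, A i * d i = 0
  dB : ∑ i, B i * d i = 0
  dP : ∑ i, P i * d i = 0
  dQ : ∑ i, Q i * d i = 0
  dR : ∑ i, R i * d i = 0

/-- The value at the central involution. -/
def val (A B P Q R : ι → ℤ) (i : ι) : ℤ := 4 * A i + 2 * B i + 3 * P i + 3 * Q i + -2 * R i

theorem Sys.extract_chars {o : ι} {d A B P Q R : ι → ℤ} (H : Sys o d A B P Q R) :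
    ∃ X F : ℤ, F ≠ 0 ∧ F + 1 ≠ 0 ∧ X ≠ 0 ∧ 1 + X + F ≠ 0 ∧
      (∑ i, (P i : ℚ) * (val A B P Q R i : ℚ) ^ 2 / (d i : ℚ) = 1 + 16 / F - 9 / (F + 1)) ∧
      (∑ i, (R i : ℚ) * (val A B P Q R i : ℚ) ^ 2 / (d i : ℚ) =
        1 + 4 / X + 16 / F - 1 / (1 + X + F)) ∧
      (∃ i, P i ≠ 0 ∧ (F.natAbs : ℤ) = d i ∧ val A B P Q R i * F = 4 * d i) ∧
      (∃ i, R i ≠ 0 ∧ (X.natAbs : ℤ) = d i ∧ val A B P Q R i * X = 2 * d i) := by
  obtain ⟨T⟩ := exists_triple H.pos H.AA H.dA H.BB H.dB H.AB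
  have hαo : T.α ≠ o := fun e => by
    have := T.Aα; rw [e, H.Ao] at this; rcases T.hs with h | h <;> omega
  have hβo : T.β ≠ o := fun e => by
    have := T.Bβ; rw [e, H.Bo] at this; rcases T.hs with h | h <;> omega
  have hγo : T.γ ≠ o := fun e => by
    have := T.Bγ; rw [e, H.Bo] at this; rcases T.hs with h | h <;> omega
  obtain ⟨hPb, hPc⟩ := supp_of_small (n := 3) (by exact_mod_cast H.PP) le_rfl
  obtain ⟨hQb, hQc⟩ := supp_of_small (n := 3) (by exact_mod_cast H.QQ) le_rfl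
  -- `P` and `Q` avoid the three exceptional characters
  have hP : P T.α = 0 ∧ P T.β = 0 ∧ P T.γ = 0 := by
    obtain ⟨e1, e2⟩ := T.eq_of_orth H.PA H.PB
    by_contra hh
    have hne : P T.α ≠ 0 := fun e => hh ⟨e, e1 ▸ e, e2 ▸ e1 ▸ e⟩
    have hsub : ({o, T.α, T.β, T.γ} : Finset ι) ⊆ Finset.univ.filter fun i => P i ≠ 0 := by
      intro i hi
      simp at hi ⊢
      rcases hi with rfl | rfl | rfl | rfl
      · rw [H.Po]; norm_num
      · exact hne
      · exact e1 ▸ hne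
      · exact e2 ▸ e1 ▸ hne
    have := Finset.card_le_card hsub
    rw [hPc, Finset.card_insert_of_notMem (by simp [hαo.symm, hβo.symm, hγo.symm]),
      Finset.card_insert_of_notMem (by simp [T.hαβ, T.hαγ]), Finset.card_pair T.hβγ] at this
    omega
  have hQ : Q T.α = 0 ∧ Q T.β = 0 ∧ Q T.γ = 0 := by
    obtain ⟨e1, e2⟩ := T.eq_of_orth H.QA H.QB
    by_contra hh
    have hne : Q T.α ≠ 0 := fun e => hh ⟨e, e1 ▸ e, e2 ▸ e1 ▸ e⟩
    have hsub : ({T.α, T.β, T.γ} : Finset ι) ⊆ Finset.univ.filter fun i => Q i ≠ 0 := by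
      intro i hi
      simp at hi ⊢
      rcases hi with rfl | rfl | rfl
      · exact hne
      · exact e1 ▸ hne
      · exact e2 ▸ e1 ▸ hne
    have hc3 : ({T.α, T.β, T.γ} : Finset ι).card = 3 := by
      rw [Finset.card_insert_of_notMem (by simp [T.hαβ, T.hαγ]), Finset.card_pair T.hβγ]
    have heq := Finset.eq_of_subset_of_card_le hsub (by rw [hQc, hc3])
    have h0 : ∀ i, i ∉ ({T.α, T.β, T.γ} : Finset ι) → Q i = 0 := fun i hi => by
      rw [heq] at hi; simpa using hi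
    have hd := H.dQ
    rw [sum_of_supp h0 (fun i => Q i * d i) (fun i hi => by simp [hi]),
      Finset.sum_insert (by simp [T.hαβ, T.hαγ]), Finset.sum_pair T.hβγ, ← e2, ← e1] at hd
    have := H.pos T.α
    have := H.pos T.β
    have := H.pos T.γ
    have hz : Q T.α * (d T.α + d T.β + d T.γ) = 0 := by linarith
    rcases mul_eq_zero.1 hz with h | h
    · exact hne h
    · omega
  -- the vector `R` without the trivial character
  set R' := Function.update R o 0 with hR'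
  have hR'o : R' o = 0 := Function.update_self ..
  have hR'i : ∀ i, i ≠ o → R' i = R i := fun i hi => Function.update_of_ne hi _ _
  have hR'sq : ∑ i, R' i ^ 2 = 3 := by
    have h := H.RR
    rw [← Finset.add_sum_erase _ _ (Finset.mem_univ o), H.Ro] at h
    rw [← Finset.add_sum_erase _ _ (Finset.mem_univ o), hR'o,
      Finset.sum_congr rfl fun i hi => by rw [hR'i i (Finset.ne_of_mem_erase hi)]]
    linarith
  obtain ⟨hRb, hRc⟩ := supp_of_small (n := 3) (by exact_mod_cast hR'sq) le_rfl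
  have hRA := H.RA
  have hRB := H.RB
  rw [T.sumA] at hRA
  rw [T.sumB] at hRB
  have hbd : ∀ (S : Finset ι), (∀ i ∈ S, R' i ≠ 0) → S.card ≤ 3 := fun S hS =>
    le_trans (Finset.card_le_card fun i hi => by simpa using hS i hi) hRc.le
  have hR0 : R T.β = 0 ∧ R T.γ = 0 ∧ R T.α = T.s := by
    have e1 : R T.β = R T.γ := by rcases T.hs with e | e <;> rw [e] at hRB <;> omega
    have e2 : R T.α - R T.β = T.s := by rcases T.hs with e | e <;> rw [e] at hRA ⊢ <;> omega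
    by_cases hz : R T.β = 0
    · exact ⟨hz, e1 ▸ hz, by omega⟩
    exfalso
    have hα0 : R T.α = 0 := by
      have hα := hRb T.α
      have hβ := hRb T.β
      rw [hR'i _ hαo] at hα
      rw [hR'i _ hβo] at hβ
      rcases T.hs with e | e <;> omega
    obtain ⟨i, hi⟩ := Finset.card_eq_one.1
      (show ((Finset.univ.filter fun j => R' j ≠ 0) \ {T.β, T.γ}).card = 1 by
        rw [Finset.card_sdiff_of_subset, hRc, Finset.card_pair T.hβγ]
        intro j hj
        simp at hj ⊢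
        rcases hj with rfl | rfl
        · rwa [hR'i _ hβo]
        · rw [hR'i _ hγo, ← e1]; exact hz)
    have hrest : ∀ j, j ∉ ({i} : Finset ι) → R j * Q j = 0 := by
      intro j hj
      by_cases hjo : j = o
      · simp [hjo, H.Qo]
      by_cases hjb : j = T.β
      · simp [hjb, hQ.2.1]
      by_cases hjc : j = T.γ
      · simp [hjc, hQ.2.2]
      have : j ∉ (Finset.univ.filter fun j => R' j ≠ 0) \ {T.β, T.γ} := by rwa [hi]
      simp [hjb, hjc] at this
      rw [← hR'i j hjo, this, zero_mul]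
    have h2 := H.QR
    rw [← Finset.sum_subset (Finset.subset_univ {i}) fun j _ hj => hrest j hj,
      Finset.sum_singleton] at h2
    by_cases hio : i = o
    · simp [hio, H.Qo] at h2
    have hh := hRb i
    rw [hR'i i hio] at hh
    rcases hh with e | e | e <;> rcases hQb i with e' | e' | e' <;> rw [e, e'] at h2 <;> omega
  obtain ⟨hRβ, hRγ, hRα⟩ := hR0
  obtain ⟨f, g, hfg, hfgs⟩ := Finset.card_eq_two.1
    (show ((Finset.univ.filter fun j => R' j ≠ 0) \ {T.α}).card = 2 by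
      rw [Finset.card_sdiff_of_subset, hRc, Finset.card_singleton]
      intro j hj
      simp at hj ⊢
      subst hj
      rw [hR'i _ hαo, hRα]
      rcases T.hs with e | e <;> omega)
  have hR0 : ∀ j, j ≠ o → j ≠ T.α → j ≠ f → j ≠ g → R j = 0 := by
    intro j h1 h2 h3 h4
    have : j ∉ (Finset.univ.filter fun j => R' j ≠ 0) \ {T.α} := by rw [hfgs]; simp [h3, h4]
    simp [h2] at this
    rwa [hR'i j h1] at this
  have hmem : ∀ j, j = f ∨ j = g → j ≠ o ∧ j ≠ T.α ∧ R j ≠ 0 := by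
    intro j hj
    have : j ∈ (Finset.univ.filter fun j => R' j ≠ 0) \ {T.α} := by
      rw [hfgs]; simpa using hj
    simp at this
    have hjo : j ≠ o := fun e => this.1 (e ▸ hR'o)
    exact ⟨hjo, this.2, hR'i j hjo ▸ this.1⟩
  -- symmetrical data
  have main : ∀ f g, f ≠ g → (∀ j, j = f ∨ j = g → j ≠ o ∧ j ≠ T.α ∧ R j ≠ 0) →
      (∀ j, j ≠ o → j ≠ T.α → j ≠ f → j ≠ g → R j = 0) → Q f = R f → Q g = R g →
      P f = R f → P g = 0 →
      ∃ X F : ℤ, F ≠ 0 ∧ F + 1 ≠ 0 ∧ X ≠ 0 ∧ 1 + X + F ≠ 0 ∧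
        (∑ i, (P i : ℚ) * (val A B P Q R i : ℚ) ^ 2 / (d i : ℚ) = 1 + 16 / F - 9 / (F + 1)) ∧
        (∑ i, (R i : ℚ) * (val A B P Q R i : ℚ) ^ 2 / (d i : ℚ) =
          1 + 4 / X + 16 / F - 1 / (1 + X + F)) ∧
        (∃ i, P i ≠ 0 ∧ (F.natAbs : ℤ) = d i ∧ val A B P Q R i * F = 4 * d i) ∧
        (∃ i, R i ≠ 0 ∧ (X.natAbs : ℤ) = d i ∧ val A B P Q R i * X = 2 * d i) := by
    clear hfgs hmem hR0 hfg f g
    intro f g hfg hmem hR0 hQf hQg hPf hPg
    obtain ⟨hfo, hfα, hRf⟩ := hmem f (Or.inl rfl)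
    obtain ⟨hgo, hgα, hRg⟩ := hmem g (Or.inr rfl)
    obtain ⟨k, hk⟩ := Finset.card_eq_one.1
      (show ((Finset.univ.filter fun j => P j ≠ 0) \ {o, f}).card = 1 by
        rw [Finset.card_sdiff_of_subset, hPc, Finset.card_pair hfo.symm]
        intro j hj
        simp at hj ⊢
        rcases hj with rfl | rfl
        · rw [H.Po]; norm_num
        · rwa [hPf])
    have hkmem : k ∈ (Finset.univ.filter fun j => P j ≠ 0) \ {o, f} := by rw [hk]; simp
    simp at hkmem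
    obtain ⟨hPk, hko, hkf⟩ := hkmem
    have hkα : k ≠ T.α := fun e => hPk (e ▸ hP.1)
    have hkβ : k ≠ T.β := fun e => hPk (e ▸ hP.2.1)
    have hkγ : k ≠ T.γ := fun e => hPk (e ▸ hP.2.2)
    have hkg : k ≠ g := fun e => hPk (e ▸ hPg)
    have hP0 : ∀ j, j ∉ ({o, f, k} : Finset ι) → P j = 0 := fun j hj => by
      simp at hj
      have : j ∉ (Finset.univ.filter fun j => P j ≠ 0) \ {o, f} := by rw [hk]; simp [hj.2.2]
      simpa [hj.1, hj.2.1] using this
    have hR0' : ∀ j, j ∉ ({o, T.α, f, g} : Finset ι) → R j = 0 := fun j hj => by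
      simp at hj; exact hR0 j hj.1 hj.2.1 hj.2.2.1 hj.2.2.2
    have hsumP : ∀ {M : Type} [AddCommMonoid M] (W : ι → M), (∀ i, P i = 0 → W i = 0) →
        ∑ i, W i = W o + (W f + W k) := fun W hW => by
      rw [sum_of_supp hP0 W hW, Finset.sum_insert (by simp [hfo.symm, Ne.symm hko]),
        Finset.sum_pair (Ne.symm hkf)]
    have hsumR : ∀ {M : Type} [AddCommMonoid M] (W : ι → M), (∀ i, R i = 0 → W i = 0) →
        ∑ i, W i = W o + (W T.α + (W f + W g)) := fun W hW => by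
      rw [sum_of_supp hR0' W hW, Finset.sum_insert (by simp [hαo.symm, hfo.symm, hgo.symm]),
        Finset.sum_insert (by simp [hfα.symm, hgα.symm]), Finset.sum_pair hfg]
    have hsqf : R f * R f = 1 := by
      have := hRb f
      rw [hR'i f hfo] at this
      rcases this with e | e | e <;> simp_all
    have hQk : Q k = 0 := by
      have h := H.PQ
      rw [hsumP (fun i => P i * Q i) (fun i hi => by simp [hi]), H.Qo, hPf, hQf] at h
      have : P k * Q k = 0 := by linarith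
      exact (mul_eq_zero.1 this).resolve_left hPk
    have hoff : ∀ j, j ≠ T.α → j ≠ T.β → j ≠ T.γ → A j = 0 ∧ B j = 0 := fun j h1 h2 h3 =>
      ⟨T.A0 j h1 h2, T.B0 j h2 h3⟩
    have hfβ : f ≠ T.β := fun e => hRf (e ▸ hRβ)
    have hfγ : f ≠ T.γ := fun e => hRf (e ▸ hRγ)
    have hgβ : g ≠ T.β := fun e => hRg (e ▸ hRβ)
    have hgγ : g ≠ T.γ := fun e => hRg (e ▸ hRγ)
    have vo : val A B P Q R o = 1 := by simp [val, H.Ao, H.Bo, H.Po, H.Qo, H.Ro]
    have vα : val A B P Q R T.α = 2 * T.s := by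
      simp [val, T.Aα, T.B0 _ T.hαβ T.hαγ, hP.1, hQ.1, hRα]; ring
    have vf : val A B P Q R f = 4 * R f := by
      obtain ⟨a, b⟩ := hoff f hfα hfβ hfγ
      simp [val, a, b, hPf, hQf]; ring
    have vg : val A B P Q R g = R g := by
      obtain ⟨a, b⟩ := hoff g hgα hgβ hgγ
      simp [val, a, b, hPg, hQg]; ring
    have vk : val A B P Q R k = 3 * P k := by
      obtain ⟨a, b⟩ := hoff k hkα hkβ hkγ
      simp [val, a, b, hQk, hR0 k hko hkα hkf hkg]
    have dp := H.dP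
    rw [hsumP (fun i => P i * d i) (fun i hi => by simp [hi]), H.Po, H.one, hPf] at dp
    have dr := H.dR
    rw [hsumR (fun i => R i * d i) (fun i hi => by simp [hi]), H.Ro, H.one, hRα] at dr
    have hsq : ∀ e : ℤ, e = 1 ∨ e = -1 → ∀ (n : ℤ), 0 < n → ∀ v : ℚ,
        (e : ℚ) * (v * e) ^ 2 / n = v ^ 2 / ((e * n : ℤ) : ℚ) := by
      rintro e (rfl | rfl) n hn v <;> push_cast <;> ring
    have hRf1 : R f = 1 ∨ R f = -1 := by
      have := hRb f; rw [hR'i f hfo] at this; exact this.resolve_left hRf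
    have hRg1 : R g = 1 ∨ R g = -1 := by
      have := hRb g; rw [hR'i g hgo] at this; exact this.resolve_left hRg
    have hPk1 : P k = 1 ∨ P k = -1 := (hPb k).resolve_left hPk
    have := H.pos f
    have := H.pos g
    have := H.pos k
    have := H.pos T.α
    refine ⟨T.s * d T.α, R f * d f, ?_, ?_, ?_, ?_, ?_, ?_, ⟨f, hPf ▸ hRf, ?_, ?_⟩, ⟨T.α, ?_, ?_, ?_⟩⟩
    · rcases hRf1 with e | e <;> rw [e] <;> omega
    · rcases hPk1 with e' | e' <;> rw [e'] at dp <;> omega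
    · rcases T.hs with e | e <;> rw [e] <;> omega
    · rcases hRg1 with e | e <;> rw [e] at dr <;> omega
    · rw [hsumP (fun i => (P i : ℚ) * (val A B P Q R i : ℚ) ^ 2 / (d i : ℚ))
        (fun i hi => by simp [hi]), H.Po, H.one, vo, vf, vk, hPf]
      have e1 := hsq _ hRf1 _ (H.pos f) 4
      have e2 := hsq _ hPk1 _ (H.pos k) 3
      rw [show P k * d k = -(R f * d f + 1) by linarith] at e2
      push_cast at e1 e2 ⊢
      rw [e1, e2, div_neg]
      ring
    · rw [hsumR (fun i => (R i : ℚ) * (val A B P Q R i : ℚ) ^ 2 / (d i : ℚ))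
        (fun i hi => by simp [hi]), H.Ro, H.one, vo, vα, vf, vg, hRα]
      have e1 := hsq _ T.hs _ (H.pos T.α) 2
      have e2 := hsq _ hRf1 _ (H.pos f) 4
      have e3 := hsq _ hRg1 _ (H.pos g) 1
      rw [show R g * d g = -(1 + T.s * d T.α + R f * d f) by linarith] at e3
      push_cast at e1 e2 e3 ⊢
      rw [one_mul] at e3
      rw [e1, e2, e3, div_neg]
      ring
    · rcases hRf1 with e | e <;> rw [e] <;> omega
    · rw [vf]
      rcases hRf1 with e | e <;> rw [e] <;> ring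
    · rw [hRα]; rcases T.hs with e | e <;> rw [e] <;> omega
    · rcases T.hs with e | e <;> rw [e] <;> omega
    · rw [vα]
      rcases T.hs with e | e <;> rw [e] <;> ring
  -- `Q` meets both, `P` one
  obtain ⟨hfo, hfα, hRf⟩ := hmem f (Or.inl rfl)
  obtain ⟨hgo, hgα, hRg⟩ := hmem g (Or.inr rfl)
  have hR0' : ∀ j, j ∉ ({o, T.α, f, g} : Finset ι) → R j = 0 := fun j hj => by
    simp at hj; exact hR0 j hj.1 hj.2.1 hj.2.2.1 hj.2.2.2
  have hsum : ∀ W : ι → ℤ, ∑ i, R i * W i =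
      W o + (R T.α * W T.α + (R f * W f + R g * W g)) := fun W => by
    rw [sum_of_supp hR0' (fun i => R i * W i) (fun i hi => by simp [hi]),
      Finset.sum_insert (by simp [hαo.symm, hfo.symm, hgo.symm]),
      Finset.sum_insert (by simp [hfα.symm, hgα.symm]), Finset.sum_pair hfg, H.Ro, one_mul]
  have hf1 := hRb f
  have hg1 := hRb g
  rw [hR'i f hfo] at hf1
  rw [hR'i g hgo] at hg1
  have hq := H.QR
  rw [hsum, H.Qo, hQ.1] at hq
  have hQf : Q f = R f ∧ Q g = R g := by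
    rcases hf1 with e | e | e <;> rcases hg1 with e' | e' | e' <;>
      rcases hQb f with p | p | p <;> rcases hQb g with p' | p' | p' <;>
      rw [e, e', p, p'] at hq <;> first | omega | simp_all
  have hp := H.PR
  rw [hsum, H.Po, hP.1] at hp
  have hPfg : (P f = R f ∧ P g = 0) ∨ (P g = R g ∧ P f = 0) := by
    rcases hf1 with e | e | e <;> rcases hg1 with e' | e' | e' <;>
      rcases hPb f with p | p | p <;> rcases hPb g with p' | p' | p' <;>
      rw [e, e', p, p'] at hp <;> first | omega | simp_all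
  rcases hPfg with ⟨a, b⟩ | ⟨a, b⟩
  · exact main f g hfg hmem hR0 hQf.1 hQf.2 a b
  · exact main g f hfg.symm (fun j hj => hmem j hj.symm) (fun j h1 h2 h3 h4 => hR0 j h1 h2 h4 h3)
      hQf.2 hQf.1 a b

theorem Sys.extract {o : ι} {d A B P Q R : ι → ℤ} (H : Sys o d A B P Q R) :
    ∃ X F : ℤ, F ≠ 0 ∧ F + 1 ≠ 0 ∧ X ≠ 0 ∧ 1 + X + F ≠ 0 ∧
      (∑ i, (P i : ℚ) * (val A B P Q R i : ℚ) ^ 2 / (d i : ℚ) = 1 + 16 / F - 9 / (F + 1)) ∧
      (∑ i, (R i : ℚ) * (val A B P Q R i : ℚ) ^ 2 / (d i : ℚ) =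
        1 + 4 / X + 16 / F - 1 / (1 + X + F)) :=
  let ⟨X, F, h1, h2, h3, h4, h5, h6, _⟩ := H.extract_chars
  ⟨X, F, h1, h2, h3, h4, h5, h6⟩

/-- The numerical part of the case analysis. -/
theorem candidates : ∀ a ∈ Finset.range 13, ∀ b ∈ Finset.range 4, ∀ e ∈ ([1, -1] : List ℤ),
    9216 * (e * 2 ^ a * 3 ^ b - 4) * (e * 2 ^ a * 3 ^ b - 3) % (e * 2 ^ a * 3 ^ b) ^ 2 = 0 →
    9216 * (e * 2 ^ a * 3 ^ b - 4) * (e * 2 ^ a * 3 ^ b - 3) / (e * 2 ^ a * 3 ^ b) ^ 2 % 32 = 16 →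
      e * 2 ^ a * 3 ^ b ∈ ([16, -16, 48, -48] : List ℤ) := by
  decide +kernel

/-- The orders. -/
theorem solve {N : ℕ} {X F : ℤ} (hF : F ≠ 0) (hF1 : F + 1 ≠ 0) (hX : X ≠ 0) (hG : 1 + X + F ≠ 0)
    (h16 : N % 32 = 16) (eP : (N : ℚ) * (1 + 16 / F - 9 / (F + 1)) = 9216)
    (eR : (N : ℚ) * (1 + 4 / X + 16 / F - 1 / (1 + X + F)) = 13824) :
    N = 5616 ∨ N = 7920 := by
  have hFq : (F : ℚ) ≠ 0 := by exact_mod_cast hF
  have hF1q : (F : ℚ) + 1 ≠ 0 := by exact_mod_cast hF1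
  have hXq : (X : ℚ) ≠ 0 := by exact_mod_cast hX
  have hGq : 1 + (X : ℚ) + F ≠ 0 := by exact_mod_cast hG
  have hq : (N : ℚ) * ((F : ℚ) + 4) ^ 2 = 9216 * F * (F + 1) := by
    field_simp at eP
    linear_combination eP
  have hz : (N : ℤ) * (F + 4) ^ 2 = 9216 * F * (F + 1) := by exact_mod_cast hq
  obtain ⟨n, hn⟩ : ∃ n, n = F + 4 := ⟨_, rfl⟩
  obtain rfl : F = n - 4 := by omega
  rw [show n - 4 + 4 = n by ring, show n - 4 + 1 = n - 3 by ring] at hz
  have hdvd : n ∣ 110592 := ⟨(N : ℤ) * n - 9216 * n + 64512, by linear_combination -hz⟩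
  have hnat : n.natAbs ∣ 2 ^ 12 * 3 ^ 3 := by
    rw [show (2 : ℕ) ^ 12 * 3 ^ 3 = (110592 : ℤ).natAbs by norm_num]
    exact Int.natAbs_dvd_natAbs.2 hdvd
  obtain ⟨u, w, hu, hw, huw⟩ := Nat.dvd_mul.1 hnat
  obtain ⟨a, ha, rfl⟩ := (Nat.dvd_prime_pow Nat.prime_two).1 hu
  obtain ⟨b, hb, rfl⟩ := (Nat.dvd_prime_pow Nat.prime_three).1 hw
  obtain ⟨e, he, hne⟩ : ∃ e ∈ ([1, -1] : List ℤ), n = e * 2 ^ a * 3 ^ b := by
    rcases Int.natAbs_eq n with h | h
    · exact ⟨1, by simp, by rw [h, ← huw]; push_cast; ring⟩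
    · exact ⟨-1, by simp, by rw [h, ← huw]; push_cast; ring⟩
  have hn0 : n ^ 2 ≠ 0 := by
    rw [hne]
    simp at he
    rcases he with rfl | rfl <;> positivity
  have hprod : 9216 * (n - 4) * (n - 3) = (N : ℤ) * n ^ 2 := hz.symm
  have hc := candidates a (Finset.mem_range.2 (by omega)) b (Finset.mem_range.2 (by omega)) e he
    (by rw [← hne, hprod]; exact Int.mul_emod_left _ _)
    (by rw [← hne, hprod, Int.mul_ediv_cancel _ hn0]; omega)
  rw [← hne] at hc
  simp at hc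
  rcases hc with rfl | rfl | rfl | rfl
  · left
    norm_num at hz
    omega
  · exfalso
    norm_num at hz
    obtain rfl : N = 13680 := by omega
    push_cast at eR hGq
    norm_num at eR hGq
    field_simp at eR
    have h : 77 * X ^ 2 - 1748 * X + 7220 = 0 := by
      have : 77 * (X : ℚ) ^ 2 - 1748 * X + 7220 = 0 := by
        ring_nf at eR ⊢
        linarith
      exact_mod_cast this
    have h2 : (154 * X - 1748) ^ 2 = 912 ^ 2 := by linear_combination 308 * h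
    rcases sq_eq_sq_iff_eq_or_eq_neg.1 h2 with e1 | e1 <;> omega
  · right
    norm_num at hz
    omega
  · exfalso
    norm_num at hz
    obtain rfl : N = 10608 := by omega
    push_cast at eR hGq
    norm_num at eR hGq
    field_simp at eR
    have h : 135 * X ^ 2 - 7548 * X + 45084 = 0 := by
      have : 135 * (X : ℚ) ^ 2 - 7548 * X + 45084 = 0 := by
        ring_nf at eR ⊢
        linarith
      exact_mod_cast this
    have h2 : (270 * X - 7548) ^ 2 = 5712 ^ 2 := by linear_combination 540 * h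
    rcases sq_eq_sq_iff_eq_or_eq_neg.1 h2 with e1 | e1 <;> omega

end Cfsg.Agent.InvolGL23.Comb
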