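import Cfsg.Agent.Char.Gen
import Mathlib

/-!
A concrete model of `GL(2,3)` with five virtual characters supported on the special classes of
its central involution.
-/

set_option autoImplicit false

namespace Cfsg.Agent.InvolGL23

open scoped ComplexConjugate

/-- A two by two matrix over the field with three elements. -/
abbrev Q := ZMod 3 × ZMod 3 × ZMod 3 × ZMod 3

/-- The matrix product. -/
def qmul (x y : Q) : Q :=
  (x.1 * y.1 + x.2.1 * y.2.2.1, x.1 * y.2.1 + x.2.1 * y.2.2.2,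
    x.2.2.1 * y.1 + x.2.2.2 * y.2.2.1, x.2.2.1 * y.2.1 + x.2.2.2 * y.2.2.2)

/-- The determinant. -/
def qdet (x : Q) : ZMod 3 := x.1 * x.2.2.2 - x.2.1 * x.2.2.1

/-- The identity. -/
def qone : Q := (1, 0, 0, 1)

/-- The central involution. -/
def qneg : Q := (2, 0, 0, 2)

/-- A non central involution. -/
def qt : Q := (1, 1, 0, 2)

/-- The invertible matrices. -/
def els : Finset Q := Finset.univ.filter fun q => qdet q ≠ 0

/-- The involutions. -/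
def invols : Finset Q := els.filter fun q => qmul q q = qone ∧ q ≠ qone

/-- The powers. -/
def qpow (x : Q) : ℕ → Q
  | 0 => qone
  | n + 1 => qmul (qpow x n) x

/-- A Sylow two-subgroup. -/
def syl : Finset Q :=
  {(0, 1, 1, 1), (0, 1, 2, 0), (0, 2, 1, 0), (0, 2, 2, 2), (1, 0, 0, 1), (1, 0, 1, 2),
    (1, 1, 0, 2), (1, 1, 1, 2), (1, 2, 2, 0), (1, 2, 2, 2), (2, 0, 0, 2), (2, 0, 2, 1),
    (2, 1, 1, 0), (2, 1, 1, 1), (2, 2, 0, 1), (2, 2, 2, 1)}

/-- Its quaternion subgroup. -/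
def quat : Finset Q :=
  {(0, 1, 2, 0), (0, 2, 1, 0), (1, 0, 0, 1), (1, 1, 1, 2), (1, 2, 2, 2), (2, 0, 0, 2),
    (2, 1, 1, 1), (2, 2, 2, 1)}

/-- The integers of `ℚ(√-2)`. -/
abbrev Z2 := Zsqrtd (-2)

/-- Two by two matrices over `Z2`. -/
abbrev M2 := Z2 × Z2 × Z2 × Z2

/-- The product. -/
def mmul (x y : M2) : M2 :=
  (x.1 * y.1 + x.2.1 * y.2.2.1, x.1 * y.2.1 + x.2.1 * y.2.2.2,
    x.2.2.1 * y.1 + x.2.2.2 * y.2.2.1, x.2.2.1 * y.2.1 + x.2.2.2 * y.2.2.2)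

/-- The faithful two dimensional representation. -/
def tblC : List (List ℤ) := [
  [], [], [],
  [], [], [],
  [], [], [],
  [], [], [],
  [-1, 0, -1, 1, 0, 0, 1, 0], [0, 1, 1, 0, 1, 0, 0, 0], [1, -1, 0, -1, -1, 0, -1, 0],
  [-1, 1, 0, 1, 2, 0, 1, -1], [0, -1, -1, 0, -1, 1, 1, 1], [1, 0, 1, -1, -1, -1, -2, 0],
  [], [], [],
  [1, -1, 0, -1, -2, 0, -1, 1], [-1, 0, -1, 1, 1, 1, 2, 0], [0, 1, 1, 0, 1, -1, -1, -1],
  [1, 0, 1, -1, 0, 0, -1, 0], [-1, 1, 0, 1, 1, 0, 1, 0], [0, -1, -1, 0, -1, 0, 0, 0],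
  [], [1, 0, 0, 0, 0, 0, 1, 0], [1, -1, -1, -1, -2, 0, -1, 1],
  [], [0, -1, -1, -1, -1, 0, -1, 1], [0, 1, 1, 1, 1, -1, 0, -1],
  [], [-1, 1, 1, 1, 1, 0, 0, -1], [-1, 0, 0, 0, 1, 1, 1, 0],
  [], [-1, 0, -1, 0, 1, 0, 0, 0], [-2, 0, -1, 1, 1, 1, 2, 0],
  [1, 0, 0, -1, -1, 0, -1, 1], [], [-1, 0, 0, 1, 0, 1, 1, 0],
  [2, 0, 1, -1, -1, -1, -1, 0], [1, 0, 1, 0, 0, -1, -1, -1], [],
  [], [0, 0, 1, 0, -1, 0, -1, 0], [1, 1, 2, 0, 1, -1, -1, -1],
  [1, 1, 1, 0, 1, -1, 0, -1], [-1, -1, -1, 0, 0, 1, 1, 0], [],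
  [0, 0, -1, 0, -1, 0, 0, 1], [], [-1, -1, -2, 0, 0, 1, 1, 1],
  [], [-1, 1, 1, 1, 2, 0, 1, -1], [-1, 0, 0, 0, 0, 0, -1, 0],
  [], [1, 0, 0, 0, -1, -1, -1, 0], [1, -1, -1, -1, -1, 0, 0, 1],
  [], [0, -1, -1, -1, -1, 1, 0, 1], [0, 1, 1, 1, 1, 0, 1, -1],
  [], [-1, -1, -2, 0, -1, 1, 1, 1], [0, 0, -1, 0, 1, 0, 1, 0],
  [0, 0, 1, 0, 1, 0, 0, -1], [1, 1, 2, 0, 0, -1, -1, -1], [],
  [-1, -1, -1, 0, -1, 1, 0, 1], [], [1, 1, 1, 0, 0, -1, -1, 0],
  [], [2, 0, 1, -1, -1, -1, -2, 0], [1, 0, 1, 0, -1, 0, 0, 0],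
  [-2, 0, -1, 1, 1, 1, 1, 0], [], [-1, 0, -1, 0, 0, 1, 1, 1],
  [-1, 0, 0, 1, 1, 0, 1, -1], [1, 0, 0, -1, 0, -1, -1, 0], []]

/-- The representation through the symmetric group of degree three. -/
def tblD : List (List ℤ) := [
  [], [], [],
  [], [], [],
  [], [], [],
  [], [], [],
  [-1, 0, 0, 0, -1, 0, 1, 0], [0, 0, 1, 0, 1, 0, 0, 0], [1, 0, -1, 0, 0, 0, -1, 0],
  [1, 0, 0, 0, 0, 0, 1, 0], [-1, 0, 1, 0, -1, 0, 0, 0], [0, 0, -1, 0, 1, 0, -1, 0],
  [], [], [],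
  [1, 0, 0, 0, 0, 0, 1, 0], [0, 0, -1, 0, 1, 0, -1, 0], [-1, 0, 1, 0, -1, 0, 0, 0],
  [-1, 0, 0, 0, -1, 0, 1, 0], [1, 0, -1, 0, 0, 0, -1, 0], [0, 0, 1, 0, 1, 0, 0, 0],
  [], [1, 0, 0, 0, 0, 0, 1, 0], [-1, 0, 0, 0, -1, 0, 1, 0],
  [], [-1, 0, 1, 0, -1, 0, 0, 0], [0, 0, 1, 0, 1, 0, 0, 0],
  [], [0, 0, -1, 0, 1, 0, -1, 0], [1, 0, -1, 0, 0, 0, -1, 0],
  [], [0, 0, -1, 0, 1, 0, -1, 0], [0, 0, 1, 0, 1, 0, 0, 0],
  [1, 0, -1, 0, 0, 0, -1, 0], [], [1, 0, 0, 0, 0, 0, 1, 0],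
  [-1, 0, 1, 0, -1, 0, 0, 0], [-1, 0, 0, 0, -1, 0, 1, 0], [],
  [], [-1, 0, 1, 0, -1, 0, 0, 0], [1, 0, -1, 0, 0, 0, -1, 0],
  [0, 0, -1, 0, 1, 0, -1, 0], [-1, 0, 0, 0, -1, 0, 1, 0], [],
  [0, 0, 1, 0, 1, 0, 0, 0], [], [1, 0, 0, 0, 0, 0, 1, 0],
  [], [-1, 0, 0, 0, -1, 0, 1, 0], [1, 0, 0, 0, 0, 0, 1, 0],
  [], [1, 0, -1, 0, 0, 0, -1, 0], [0, 0, -1, 0, 1, 0, -1, 0],
  [], [0, 0, 1, 0, 1, 0, 0, 0], [-1, 0, 1, 0, -1, 0, 0, 0],
  [], [1, 0, -1, 0, 0, 0, -1, 0], [-1, 0, 1, 0, -1, 0, 0, 0],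
  [0, 0, 1, 0, 1, 0, 0, 0], [1, 0, 0, 0, 0, 0, 1, 0], [],
  [0, 0, -1, 0, 1, 0, -1, 0], [], [-1, 0, 0, 0, -1, 0, 1, 0],
  [], [0, 0, 1, 0, 1, 0, 0, 0], [0, 0, -1, 0, 1, 0, -1, 0],
  [-1, 0, 1, 0, -1, 0, 0, 0], [], [-1, 0, 0, 0, -1, 0, 1, 0],
  [1, 0, -1, 0, 0, 0, -1, 0], [1, 0, 0, 0, 0, 0, 1, 0], []]

/-- The matrix stored in a table. -/
def look (T : List (List ℤ)) (x : Q) : M2 :=
  let l := T.getD (27 * x.1.val + 9 * x.2.1.val + 3 * x.2.2.1.val + x.2.2.2.val) []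
  (⟨l.getD 0 0, l.getD 1 0⟩, ⟨l.getD 2 0, l.getD 3 0⟩, ⟨l.getD 4 0, l.getD 5 0⟩,
    ⟨l.getD 6 0, l.getD 7 0⟩)

/-- The trace of the faithful representation. -/
def cC (x : Q) : Z2 := (look tblC x).1 + (look tblC x).2.2.2

/-- The trace of the other representation. -/
def cD (x : Q) : Z2 := (look tblD x).1 + (look tblD x).2.2.2

/-- The five virtual characters. -/
def vf : Fin 5 → Q → Z2 :=
  ![fun x => cD x - cC x, fun x => cC x - star (cC x), fun x => cC x * star (cC x) - cC x * cD x,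
    fun x => cC x * cC x - cC x * cD x, fun x => cD x * cD x - cC x * cD x]

/-- Their inner products. -/
def gram : Fin 5 → Fin 5 → ℤ :=
  ![![2, -1, 0, 0, 1], ![-1, 2, 0, 0, 0], ![0, 0, 3, 1, 2], ![0, 0, 1, 3, 2], ![1, 0, 2, 2, 4]]

/-- Their multiplicities of the trivial character. -/
def triv : Fin 5 → ℤ := ![0, 0, 1, 0, 1]

/-- The sums over pairs of involutions, divided by 48. -/
def pairs : Fin 5 → ℤ := ![0, 0, 4, 4, 6]

/-- The coefficients of the indicator of the central involution. -/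
def coeff : Fin 5 → ℤ := ![4, 2, 3, 3, -2]

theorem look_hom : ∀ a ∈ els, ∀ b ∈ els, look tblC (qmul a b) = mmul (look tblC a) (look tblC b) ∧
    look tblD (qmul a b) = mmul (look tblD a) (look tblD b) := by decide +kernel

theorem look_one : look tblC qone = (1, 0, 0, 1) ∧ look tblD qone = (1, 0, 0, 1) := by
  decide +kernel

theorem vf_gram : ∀ i j, ∑ q ∈ els, vf i q * star (vf j q) = ((48 * gram i j : ℤ) : Z2) := by
  decide +kernel

theorem vf_triv : ∀ i, ∑ q ∈ els, vf i q = ((48 * triv i : ℤ) : Z2) := by decide +kernel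

theorem vf_pairs : ∀ i, ∑ u ∈ invols, ∑ v ∈ invols, vf i (qmul u v) = ((48 * pairs i : ℤ) : Z2) := by
  decide +kernel

theorem vf_indicator : ∀ q ∈ els, ∑ i, (coeff i : Z2) * vf i q = if q = qneg then 48 else 0 := by
  decide +kernel

theorem vf_one : ∀ i, vf i qone = 0 := by decide +kernel

theorem vf_support : ∀ i, ∀ q ∈ els, vf i q ≠ 0 → ∃ j ∈ Finset.range 8, qpow q j = qneg := by
  decide +kernel

theorem central_eq : ∀ q ∈ els, qmul q q = qone → q ≠ qone → (∀ r ∈ els, qmul q r = qmul r q) →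
    q = qneg := by decide +kernel

theorem qneg_central : qneg ∈ els ∧ ∀ r ∈ els, qmul qneg r = qmul r qneg := by decide +kernel

theorem invol_conj : ∀ q ∈ els, qmul q q = qone → q ≠ qone → q ≠ qneg →
    ∃ r ∈ els, qmul r qt = qmul q r := by decide +kernel

set_option synthInstance.maxSize 4000 in
theorem syl_facts : syl ⊆ els ∧ quat ⊆ syl ∧ qone ∈ quat ∧ qt ∈ syl ∧ qt ∉ quat ∧ qneg ∈ syl ∧
    syl.card = 16 ∧ quat.card = 8 ∧ qmul qt qt = qone := by decide +kernel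

set_option synthInstance.maxSize 4000 in
theorem syl_mul : (∀ a ∈ syl, ∀ b ∈ syl, qmul a b ∈ syl) ∧ (∀ a ∈ syl, ∃ b ∈ syl, qmul a b = qone) ∧
    (∀ a ∈ quat, ∀ b ∈ quat, qmul a b ∈ quat) ∧ (∀ a ∈ quat, ∃ b ∈ quat, qmul a b = qone) := by
  decide +kernel

theorem syl_center : ∀ a ∈ syl, qmul a a = qone → a ≠ qone →
    (∀ b ∈ syl, qmul a b = qmul b a) → a = qneg := by decide +kernel

theorem quat_invol : ∀ a ∈ quat, qmul a a = qone → a ≠ qone → a = qneg := by decide +kernel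

theorem els_card : els.card = 48 := by decide +kernel

local notation "GL23" => Matrix.GeneralLinearGroup (Fin 2) (ZMod 3)

/-- The entries of a matrix. -/
def toQ (g : GL23) : Q := (g.1 0 0, g.1 0 1, g.1 1 0, g.1 1 1)

theorem toQ_mul (g h : GL23) : toQ (g * h) = qmul (toQ g) (toQ h) := by
  simp [toQ, qmul, Matrix.mul_apply, Fin.sum_univ_two]

theorem toQ_one : toQ (1 : GL23) = qone := by simp [toQ, qone]

theorem toQ_injective : Function.Injective toQ := fun g h e => by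
  simp only [toQ, Prod.mk.injEq] at e
  obtain ⟨e1, e2, e3, e4⟩ := e
  refine Units.ext (Matrix.ext fun i j => ?_)
  fin_cases i <;> fin_cases j <;> assumption

theorem toQ_mem (g : GL23) : toQ g ∈ els := by
  refine Finset.mem_filter.2 ⟨Finset.mem_univ _, ?_⟩
  have h : qdet (toQ g) = g.1.det := (Matrix.det_fin_two g.1).symm
  rw [h]
  exact ((Matrix.isUnit_iff_isUnit_det g.1).1 g.isUnit).ne_zero

theorem toQ_surj {q : Q} (hq : q ∈ els) : ∃ g : GL23, toQ g = q := by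
  obtain ⟨a, b, c, d⟩ := q
  refine ⟨Matrix.GeneralLinearGroup.mkOfDetNeZero !![a, b; c, d] ?_, ?_⟩
  · rw [Matrix.det_fin_two_of]
    exact (Finset.mem_filter.1 hq).2
  · rfl

theorem toQ_pow (g : GL23) : ∀ n : ℕ, toQ (g ^ n) = qpow (toQ g) n
  | 0 => by rw [pow_zero, toQ_one]; rfl
  | n + 1 => by rw [pow_succ, toQ_mul, toQ_pow g n]; rfl

theorem sum_toQ {M : Type*} [AddCommMonoid M] [Fintype GL23] (F : Q → M) :
    ∑ g : GL23, F (toQ g) = ∑ q ∈ els, F q :=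
  Finset.sum_bij (fun g _ => toQ g) (fun g _ => toQ_mem g) (fun _ _ _ _ e => toQ_injective e)
    (fun q hq => by
      obtain ⟨g, hg⟩ := toQ_surj hq
      exact ⟨g, Finset.mem_univ _, hg⟩)
    (fun _ _ => rfl)

theorem card_gl23 : Nat.card GL23 = 48 := by
  rw [Nat.card_congr (Equiv.ofBijective (fun g => (⟨toQ g, toQ_mem g⟩ : {q // q ∈ els}))
    ⟨fun g h e => toQ_injective (congrArg Subtype.val e), fun q => by
      obtain ⟨g, hg⟩ := toQ_surj q.2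
      exact ⟨g, Subtype.ext hg⟩⟩), Nat.card_eq_fintype_card, Fintype.card_coe, els_card]

/-- The embedding into the complex numbers. -/
noncomputable def toC : Z2 →+* ℂ :=
  Zsqrtd.lift ⟨(Real.sqrt 2 : ℂ) * Complex.I, by
    rw [mul_mul_mul_comm, Complex.I_mul_I, ← Complex.ofReal_mul,
      Real.mul_self_sqrt (by norm_num : (0 : ℝ) ≤ 2)]
    push_cast
    ring⟩

theorem toC_star (x : Z2) : toC (star x) = conj (toC x) := by
  simp [toC, Zsqrtd.lift]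

/-- The complex matrix of a quadruple. -/
noncomputable def toMat (x : M2) : Matrix (Fin 2) (Fin 2) ℂ :=
  !![toC x.1, toC x.2.1; toC x.2.2.1, toC x.2.2.2]

theorem toMat_mul (x y : M2) : toMat (mmul x y) = toMat x * toMat y := by
  ext i j
  fin_cases i <;> fin_cases j <;> simp [toMat, mmul, Matrix.mul_apply, Fin.sum_univ_two]

theorem toMat_one : toMat (1, 0, 0, 1) = 1 := by
  ext i j
  fin_cases i <;> fin_cases j <;> simp [toMat]

theorem isCharacter_tbl (T : List (List ℤ))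
    (h : ∀ a ∈ els, ∀ b ∈ els, look T (qmul a b) = mmul (look T a) (look T b))
    (h1 : look T qone = (1, 0, 0, 1)) :
    IsCharacter GL23 fun g => toC ((look T (toQ g)).1 + (look T (toQ g)).2.2.2) := by
  let ρ : Representation ℂ GL23 (Fin 2 → ℂ) :=
    { toFun := fun g => Matrix.toLinAlgEquiv' (toMat (look T (toQ g)))
      map_one' := by rw [toQ_one, h1, toMat_one, map_one]
      map_mul' := fun g k => by
        rw [toQ_mul, h _ (toQ_mem g) _ (toQ_mem k), toMat_mul, map_mul] }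
  refine ⟨2, ρ, funext fun g => ?_⟩
  show LinearMap.trace ℂ (Fin 2 → ℂ) (Matrix.toLin' (toMat (look T (toQ g)))) = _
  rw [Matrix.trace_toLin'_eq, Matrix.trace_fin_two, map_add]
  rfl

/-- The virtual characters on the general linear group. -/
noncomputable def theta (i : Fin 5) (g : GL23) : ℂ := toC (vf i (toQ g))

theorem isGeneralized_theta (i : Fin 5) : IsGeneralizedCharacter GL23 (theta i) := by
  have hc : IsGeneralizedCharacter GL23 fun g => toC (cC (toQ g)) :=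
    Char.isGeneralized_of_isCharacter
      (isCharacter_tbl tblC (fun a ha b hb => (look_hom a ha b hb).1) look_one.1)
  have hd : IsGeneralizedCharacter GL23 fun g => toC (cD (toQ g)) :=
    Char.isGeneralized_of_isCharacter
      (isCharacter_tbl tblD (fun a ha b hb => (look_hom a ha b hb).2) look_one.2)
  have hb : IsGeneralizedCharacter GL23 fun g => conj (toC (cC (toQ g))) :=
    Char.isGeneralized_of_isCharacter (Char.isCharacter_conj
      (isCharacter_tbl tblC (fun a ha b hb => (look_hom a ha b hb).1) look_one.1))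
  fin_cases i
  · convert Char.isGeneralized_sub hd hc using 1
    funext g; simp [theta, vf]
  · convert Char.isGeneralized_sub hc hb using 1
    funext g; simp [theta, vf, toC_star]
  · convert Char.isGeneralized_sub (Char.isGeneralized_mul hc hb) (Char.isGeneralized_mul hc hd)
      using 1
    funext g; simp [theta, vf, toC_star]
  · convert Char.isGeneralized_sub (Char.isGeneralized_mul hc hc) (Char.isGeneralized_mul hc hd)
      using 1
    funext g; simp [theta, vf]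
  · convert Char.isGeneralized_sub (Char.isGeneralized_mul hd hd) (Char.isGeneralized_mul hc hd)
      using 1
    funext g; simp [theta, vf]

end Cfsg.Agent.InvolGL23
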